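import Groth.Agent.Models.K746.Descent
import Groth.Agent.Models.K326.Count
import Groth.Agent.Models.K511.GalInv
import Groth.Agent.Models.K485.Dict

/-!
# The torsion of the Picard group of a curve without a rational point

`L` a field, `C / L` a smooth proper curve of genus `g ≥ 2` with `H^0 = L`, `J` its Jacobian, `l > 2 g - 2` a prime which is not
zero in `L`. If the absolute Galois group acts trivially on `J[l]` then `Pic (C)[l]` has `l ^ (2 g)` elements.

* `countHyp` : this is `K485.Dict.CountHyp`;
* `torsHyp` : the whole of node (1) of the semistable reduction statement, `K485.Backward.TorsHyp`, from the inertia part.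
-/

set_option autoImplicit false
universe u

open CategoryTheory CategoryTheory.Limits MonoidalCategory CartesianMonoidalCategory MonObj GrpObj AlgebraicGeometry
open Groth.Agent Groth.Agent.Grpsch.PicGrp Groth.Agent.Picfga.FieldSections Groth.Agent.Picfga.GaloisAct

namespace K746.Count

/-- The count of the torsion of the Picard group. -/
theorem main (L : Type u) [Field L] {C : Scheme.{u}} (f : C ⟶ Spec (CommRingCat.of L))
    (hC : Curve.IsSmoothProperCurve L C f) (hH0 : IsIso f.appTop) (hg : 2 ≤ Models.curveGenus L C f)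
    (J : Over (Spec (CommRingCat.of L))) [GrpObj J] [IsCommMonObj J] [IsProper J.hom] [Smooth J.hom]
    (φ : ∀ T : Over (Spec (CommRingCat.of L)), PicF.Cl (PicF.XT f T) → (T ⟶ J))
    (hD : AbDual.IsDualAV Scheme.fppfPrecoverage (Over.mk f) J φ) (l : ℕ) (hl : l.Prime) (hlk : (l : L) ≠ 0)
    (hlg : 2 * Models.curveGenus L C f - 2 < l)
    (hgal : ∀ (Ω : Type u) [Field Ω] [Algebra L Ω] [IsSepClosure L Ω] (σ : Ω ≃ₐ[L] Ω) (x : SGA7.Pts Ω J),
      x ^ l = 1 → SGA7.galAct σ x = x) :
    Nat.card {c : Pic C // c ^ l = 1} = l ^ (2 * Models.curveGenus L C f) :=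
  K326.Count.main' L f hC hH0 hg l hl hlk (SeparableClosure L) (fun c hc =>
    Descent.main f hC hH0 hg hl hlg (SeparableClosure L) c hc (fun σ =>
      Models.K511.GalInv.main L f hC hH0 J φ hD l hl (SeparableClosure L)
        (fun σ x hx => hgal (SeparableClosure L) σ x hx) σ c hc))

theorem countHyp : Models.K485.Dict.CountHyp.{u} := by
  intro L _ C f hC hH0 hg J _ _ _ _ φ hD l hl hlk hlg hgal
  exact main L f hC hH0 hg J φ hD l hl hlk hlg hgal

theorem torsHyp (h1 : Models.K485.Dict.InertHyp.{u}) : Models.K485.Backward.TorsHyp.{u} :=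
  Models.K485.Dict.torsHyp h1 countHyp

end K746.Count
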