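import Groth.Agent.Pic13.H520.DisjPic
import Groth.Agent.Sga7.H729.TorsionSec
import Groth.Agent.MilnorK.K964.XDesc
import Groth.Agent.Vancyc.H699.SepTensor
import Groth.Agent.Picfga.GaloisAct

/-!
# `X_M ×_X X_Ω` is a disjoint union of copies of `X_Ω`

`M / k` finite separable, `Ω` a separably closed extension of `k`, `f : X ⟶ Spec k`. The sections `sec f τ` of
`X_M ×_X X_Ω ⟶ X_Ω`, `τ : M →ₐ[k] Ω`, are open immersions with disjoint images which cover; hence two classes of
invertible modules on `X_M ×_X X_Ω` agree as soon as their pullbacks along all the `sec f τ` agree.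
-/

set_option autoImplicit false
universe u

open CategoryTheory CategoryTheory.Limits AlgebraicGeometry
open Groth.Agent Groth.Agent.Grpsch.PicGrp Groth.Agent.Picfga.FieldSections Groth.Agent.Picfga.GaloisAct

namespace K746.Decomp

variable {k M Ω : Type u} [Field k] [Field M] [Field Ω] [Algebra k M] [Algebra k Ω] {X : Scheme.{u}}
  (f : X ⟶ Spec (CommRingCat.of k))

/-- `Spec Ω ⟶ Spec M` given by an embedding. -/
noncomputable abbrev sp (τ : M →ₐ[k] Ω) : Spec (CommRingCat.of Ω) ⟶ Spec (CommRingCat.of M) :=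
  Spec.map (CommRingCat.ofHom (τ : M →+* Ω))

theorem sp_bc (τ : M →ₐ[k] Ω) : sp τ ≫ bc k M = bc k Ω := by
  rw [sp, bc, bc, ← Spec.map_comp, ← CommRingCat.ofHom_comp]
  congr 2
  exact τ.comp_algebraMap

/-- `X_Ω ⟶ X_M` given by an embedding. -/
noncomputable def em (τ : M →ₐ[k] Ω) : pullback f (bc k Ω) ⟶ pullback f (bc k M) :=
  pullback.lift (pullback.fst f (bc k Ω)) (pullback.snd f (bc k Ω) ≫ sp τ) (by
    rw [Category.assoc, sp_bc, pullback.condition])

theorem em_fst (τ : M →ₐ[k] Ω) : em f τ ≫ pullback.fst f (bc k M) = pullback.fst f (bc k Ω) :=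
  pullback.lift_fst _ _ _

theorem em_snd (τ : M →ₐ[k] Ω) : em f τ ≫ pullback.snd f (bc k M) = pullback.snd f (bc k Ω) ≫ sp τ :=
  pullback.lift_snd _ _ _

variable (M Ω) in
/-- `X_M ×_X X_Ω`. -/
noncomputable abbrev YY : Scheme.{u} := pullback (pullback.fst f (bc k M)) (pullback.fst f (bc k Ω))

/-- The section of `X_M ×_X X_Ω ⟶ X_Ω` given by an embedding. -/
noncomputable def sec (τ : M →ₐ[k] Ω) : pullback f (bc k Ω) ⟶ YY M Ω f :=
  pullback.lift (em f τ) (𝟙 _) (by rw [em_fst, Category.id_comp])

theorem sec_fst (τ : M →ₐ[k] Ω) : sec f τ ≫ pullback.fst _ _ = em f τ := pullback.lift_fst _ _ _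

theorem sec_snd (τ : M →ₐ[k] Ω) : sec f τ ≫ pullback.snd _ _ = 𝟙 _ := pullback.lift_snd _ _ _

variable [FiniteDimensional k M] [Algebra.IsSeparable k M]

instance etale_snd : Etale (pullback.snd (pullback.fst f (bc k M)) (pullback.fst f (bc k Ω))) := by
  have h1 : Etale (bc k M) := K964.XDesc.etale_bL k M
  infer_instance

instance isOpenImmersion_sec (τ : M →ₐ[k] Ω) : IsOpenImmersion (sec f τ) :=
  Sga7.H729.TorsionSec.isOpenImmersion_of_section (pullback.snd _ _) _ (sec_snd f τ)

omit [FiniteDimensional k M] [Algebra.IsSeparable k M] in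
theorem spec_map_injective {A B : Type u} [CommRing A] [CommRing B] {φ ψ : A →+* B}
    (h : Spec.map (CommRingCat.ofHom φ) = Spec.map (CommRingCat.ofHom ψ)) : φ = ψ := by
  have h1 := Spec.map_injective h
  exact congrArg CommRingCat.Hom.hom h1

omit [FiniteDimensional k M] in
theorem exists_mem_range [IsSepClosed Ω] (y : YY M Ω f) : ∃ τ : M →ₐ[k] Ω, y ∈ Set.range (sec f τ) := by
  let e := (YY M Ω f).fromSpecResidueField y
  let α := Spec.preimage (e ≫ pullback.fst _ _ ≫ pullback.snd f (bc k M))
  let β := Spec.preimage (e ≫ pullback.snd _ _ ≫ pullback.snd f (bc k Ω))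
  have hα : Spec.map α = e ≫ pullback.fst _ _ ≫ pullback.snd f (bc k M) := Spec.map_preimage _
  have hβ : Spec.map β = e ≫ pullback.snd _ _ ≫ pullback.snd f (bc k Ω) := Spec.map_preimage _
  have h1 : α.hom.comp (algebraMap k M) = β.hom.comp (algebraMap k Ω) := by
    apply spec_map_injective
    have h2 : Spec.map (CommRingCat.ofHom (α.hom.comp (algebraMap k M))) = Spec.map α ≫ bc k M := by
      rw [bc, ← Spec.map_comp]; rfl
    have h3 : Spec.map (CommRingCat.ofHom (β.hom.comp (algebraMap k Ω))) = Spec.map β ≫ bc k Ω := by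
      rw [bc, ← Spec.map_comp]; rfl
    rw [h2, h3, hα, hβ]
    simp only [Category.assoc]
    rw [← pullback.condition, ← pullback.condition, pullback.condition_assoc]
  let κ := (YY M Ω f).residueField y
  let _ : Algebra k κ := (β.hom.comp (algebraMap k Ω)).toAlgebra
  let _ : Algebra Ω κ := β.hom.toAlgebra
  have : IsScalarTower k Ω κ := IsScalarTower.of_algebraMap_eq' rfl
  let αk : M →ₐ[k] κ := { α.hom with commutes' := fun r => congrArg (fun t => t r) h1 }
  have h4 : ∀ m : M, ∃ w : Ω, β.hom w = α.hom m := by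
    intro m
    have hs : IsSeparable k (αk m) := (Algebra.IsSeparable.isSeparable k m).map αk α.hom.injective
    exact Vancyc.H699.SepTensor.mem_range_of_isSeparable (Ω := Ω) hs
  have hβi : Function.Injective β.hom := β.hom.injective
  have h5 : α.hom.range ≤ β.hom.range := by
    rintro _ ⟨m, rfl⟩
    exact h4 m
  choose t ht using h4
  let τ : M →ₐ[k] Ω :=
    { toFun := t
      map_one' := hβi (by rw [ht, map_one, map_one])
      map_mul' := fun a b => hβi (by rw [ht, map_mul, map_mul, ht, ht])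
      map_zero' := hβi (by rw [ht, map_zero, map_zero])
      map_add' := fun a b => hβi (by rw [ht, map_add, map_add, ht, ht])
      commutes' := fun r => hβi (by
        rw [ht]
        exact congrArg (fun t => t r) h1) }
  have hτ : Spec.map β ≫ sp τ = Spec.map α := by
    have h6 : CommRingCat.ofHom (τ : M →+* Ω) ≫ β = α := by
      ext m
      exact ht m
    rw [sp, ← Spec.map_comp, h6]
  refine ⟨τ, ?_⟩
  have h7 : (e ≫ pullback.snd _ _) ≫ sec f τ = e := by
    apply pullback.hom_ext
    · rw [Category.assoc, sec_fst]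
      apply pullback.hom_ext
      · simp only [Category.assoc, em_fst, pullback.condition]
      · rw [Category.assoc, em_snd, ← Category.assoc, Category.assoc e, ← hβ, hτ, hα, Category.assoc]
    · rw [Category.assoc, sec_snd, Category.comp_id]
  have h8 : y = e (IsLocalRing.closedPoint _) := by
    exact (Scheme.fromSpecResidueField_apply (X := YY M Ω f) y _).symm
  rw [h8, ← h7]
  exact ⟨_, (Scheme.Hom.comp_apply _ _ _).symm⟩

theorem eq_of_mem_range {τ τ' : M →ₐ[k] Ω} {y : YY M Ω f} (h : y ∈ Set.range (sec f τ))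
    (h' : y ∈ Set.range (sec f τ')) : τ = τ' := by
  let e := (YY M Ω f).fromSpecResidueField y
  let β := Spec.preimage (e ≫ pullback.snd _ _ ≫ pullback.snd f (bc k Ω))
  have hβ : Spec.map β = e ≫ pullback.snd _ _ ≫ pullback.snd f (bc k Ω) := Spec.map_preimage _
  have key : ∀ ρ : M →ₐ[k] Ω, y ∈ Set.range (sec f ρ) →
      e ≫ pullback.fst _ _ ≫ pullback.snd f (bc k M) = Spec.map β ≫ sp ρ := by
    intro ρ hρ
    have hr : Set.range e ⊆ Set.range (sec f ρ) := by
      rintro _ ⟨t, rfl⟩
      have : e t = y := Scheme.fromSpecResidueField_apply (X := YY M Ω f) y t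
      rw [this]
      exact hρ
    let b := IsOpenImmersion.lift (sec f ρ) e hr
    have hb : b ≫ sec f ρ = e := IsOpenImmersion.lift_fac _ _ _
    have hb2 : e ≫ pullback.snd _ _ = b := by rw [← hb, Category.assoc, sec_snd, Category.comp_id]
    have h9 : e ≫ pullback.fst _ _ = b ≫ em f ρ := by
      rw [← sec_fst, ← Category.assoc, hb]
    rw [hβ, ← Category.assoc, h9, Category.assoc, em_snd, ← hb2]
    simp only [Category.assoc]
  have h1 := (key τ h).symm.trans (key τ' h')
  rw [sp, sp, ← Spec.map_comp, ← Spec.map_comp] at h1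
  have h2 := Spec.map_injective h1
  ext m
  have h3 := congrArg (fun t => t.hom m) h2
  exact β.hom.injective h3

/-- Two classes on `X_M ×_X X_Ω` agree if they agree along the sections `sec f τ`. -/
theorem ext_sec [IsSepClosed Ω] {a b : Pic (YY M Ω f)} (h : ∀ τ : M →ₐ[k] Ω, pull (sec f τ) a = pull (sec f τ) b) :
    a = b := by
  rw [← mul_inv_eq_one]
  refine Pic13.H520.DisjPic.eq_one_of_disjoint (fun _ : M →ₐ[k] Ω => pullback f (bc k Ω)) (fun τ => sec f τ) ?_
    (exists_mem_range f) _ ?_
  · intro τ τ' hne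
    rw [Set.disjoint_left]
    intro y hy hy'
    exact hne (eq_of_mem_range f hy hy')
  · intro τ
    rw [map_mul, map_inv, h τ, mul_inv_cancel]

/-- Two classes, one on `X_M` and one on `X_Ω`, agree on `X_M ×_X X_Ω` if they agree along all embeddings. -/
theorem pull_eq [IsSepClosed Ω] (d : Pic (pullback f (bc k M))) (c : Pic (pullback f (bc k Ω)))
    (h : ∀ τ : M →ₐ[k] Ω, pull (em f τ) d = c) :
    pull (pullback.fst (pullback.fst f (bc k M)) (pullback.fst f (bc k Ω))) d =
      pull (pullback.snd (pullback.fst f (bc k M)) (pullback.fst f (bc k Ω))) c := by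
  apply ext_sec f
  intro τ
  rw [← pull_comp, ← pull_comp, sec_fst, sec_snd, pull_id, h]

end K746.Decomp
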