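import Groth.Agent.Models.K746.NormBC
import Groth.Agent.Models.K746.Decomp
import Groth.Agent.Models.H58.ExtMain
import Groth.Agent.Pi1.K154.DegSheaf

/-!
# Descent of torsion classes without a rational point

`C / k` a smooth proper curve of genus `g ≥ 2` with `H^0 = k`, `l > 2 g - 2` a prime, `Ω` a separable closure of `k`: a class in
`Pic (C_Ω)[l]` which is fixed by `Gal (Ω / k)` comes from `Pic C`.

There is a closed point with separable residue field `M` of degree `m ≤ 2 g - 2`; the class descends to a class `d` on `C_M`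
(`exists_em_eq`), the norm of `d` pulls back to `c ^ m` (`pull_norm`), and `m` is prime to `l`.
-/

set_option autoImplicit false
universe u

open CategoryTheory CategoryTheory.Limits AlgebraicGeometry
open Groth.Agent Groth.Agent.Grpsch.PicGrp Groth.Agent.Picfga.FieldSections Groth.Agent.Picfga.GaloisAct
open Groth.Agent.Picfga.PicBridge Groth.Agent.Models.H58 Groth.Agent.Models.H58.GalDesc

namespace K746.Descent

section

variable {k M Ω : Type u} [Field k] [Field M] [Field Ω] [Algebra k M] [Algebra k Ω] {X : Scheme.{u}}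
  (f : X ⟶ Spec (CommRingCat.of k))

theorem isPullback_em (τ : M →ₐ[k] Ω) :
    IsPullback (Decomp.em f τ) (pullback.snd f (bc k Ω)) (pullback.snd f (bc k M)) (Decomp.sp τ) := by
  refine IsPullback.of_right (h₁₂ := pullback.fst f (bc k M)) (v₁₃ := f) (h₂₂ := bc k M) ?_
    (Decomp.em_snd f τ) (IsPullback.of_hasPullback f (bc k M))
  rw [Decomp.em_fst, Decomp.sp_bc]
  exact IsPullback.of_hasPullback f (bc k Ω)

theorem tw_em (τ : M →ₐ[k] Ω) (σ : Ω ≃ₐ[k] Ω) :
    tw f σ ≫ Decomp.em f τ = Decomp.em f ((σ : Ω →ₐ[k] Ω).comp τ) := by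
  apply pullback.hom_ext
  · rw [Category.assoc, Decomp.em_fst, tw_fst, Decomp.em_fst]
  · rw [Category.assoc, Decomp.em_snd, ← Category.assoc, tw_snd, Category.assoc, Decomp.em_snd]
    congr 1
    rw [Decomp.sp, Decomp.sp, spAut, ← Spec.map_comp, ← CommRingCat.ofHom_comp]
    rfl

/-- Descent from `Ω` to `M`, given an `M`-valued point. -/
theorem exists_em_eq [Algebra M Ω] [IsScalarTower k M Ω] [IsGalois M Ω] [CompactSpace X] [QuasiSeparatedSpace X]
    (hH0 : IsIso f.appTop) (t : Spec (CommRingCat.of M) ⟶ X) (ht : t ≫ f = bc k M)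
    (c : Pic (pullback f (bc k Ω))) (hc : ∀ σ : Ω ≃ₐ[M] Ω, pull (tw f (σ.restrictScalars k)) c = c) :
    ∃ d : Pic (pullback f (bc k M)), pull (Decomp.em f (IsScalarTower.toAlgHom k M Ω)) d = c := by
  have : QuasiCompact f := (quasiCompact_iff_compactSpace f).mpr inferInstance
  have : QuasiSeparated f := (quasiSeparated_iff_quasiSeparatedSpace f).mpr inferInstance
  have h1 : CompactSpace ↥(pullback f (bc k M)) :=
    QuasiCompact.compactSpace_of_compactSpace (pullback.snd f (bc k M))
  have h2 : QuasiSeparatedSpace ↥(pullback f (bc k M)) :=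
    quasiSeparatedSpace_of_quasiSeparated (pullback.snd f (bc k M))
  have H : IsPullback (Decomp.em f (IsScalarTower.toAlgHom k M Ω)) (pullback.snd f (bc k Ω))
      (pullback.snd f (bc k M)) (bc M Ω) := isPullback_em f _
  let e := H.isoPullback
  have hE : IsIso (pullback.snd f (bc k M)).appTop :=
    Groth.Agent.Picfga.H0.isIso_app f hH0 (Over.mk (bc k M)) ⊤
  have h4 : ∀ σ : Ω ≃ₐ[M] Ω, e.hom ≫ tw (pullback.snd f (bc k M)) σ = tw f (σ.restrictScalars k) ≫ e.hom := by
    intro σ
    apply pullback.hom_ext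
    · rw [Category.assoc, tw_fst, Category.assoc, IsPullback.isoPullback_hom_fst, tw_em]
      congr 1
      ext m
      exact (σ.commutes m).symm
    · rw [Category.assoc, tw_snd, Category.assoc, IsPullback.isoPullback_hom_snd, tw_snd,
        ← Category.assoc, IsPullback.isoPullback_hom_snd]
      rfl
  have key := S1157.result M (pullback f (bc k M)) (pullback.snd f (bc k M)) hE
    (pullback.lift t (𝟙 _) (by rw [ht, Category.id_comp]))
    (pullback.lift_snd _ _ _) Ω (ofPic (pull e.inv c)) (isInvertibleCl_ofPic _) (fun σ => by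
      rw [← ofPic_pull, ← pull_comp]
      have h3 : PicF2.twistAut (pullback.snd f (bc k M)) σ ≫ e.inv = e.inv ≫ tw f (σ.restrictScalars k) := by
        rw [Iso.comp_inv_eq, Category.assoc, ← h4, Iso.inv_hom_id_assoc]
      rw [h3, pull_comp, hc])
  obtain ⟨c₀, hc₀, h5⟩ := key
  obtain ⟨d, rfl⟩ := exists_ofPic hc₀
  refine ⟨d, ?_⟩
  rw [← ofPic_pull] at h5
  have h6 := congrArg (pull e.hom) (ofPic_injective h5)
  rw [← pull_comp, ← pull_comp, e.hom_inv_id, pull_id] at h6
  rw [← h6]
  congr 2
  exact (H.isoPullback_hom_fst).symm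

variable [FiniteDimensional k M] [Algebra.IsSeparable k M]

instance isFinite_fst : IsFinite (pullback.fst f (bc k M)) := by
  have h1 : IsFinite (bc k M) := K964.XDesc.isFinite_bL k M
  infer_instance

/-- The rank of `X_M ⟶ X`. -/
theorem rank_fst : FlatMod.IsFinLocFreeOfRank (Module.finrank k M)
    ((Coh.push (pullback.fst f (bc k M))).obj (Coh.structureModule (pullback f (bc k M)))) := by
  have h1 : IsFinite (bc k M) := K964.XDesc.isFinite_bL k M
  have h2 : Etale (bc k M) := K964.XDesc.etale_bL k M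
  rw [K154.DegSheaf.isFinLocFreeOfRank_push_iff]
  intro s
  rw [Scheme.Hom.finrank_of_isPullback _ _ _ _ (IsPullback.of_hasPullback f (bc k M)).flip]
  refine (Scheme.Hom.finrank_SpecMap_algebraMap k M (f s)).trans ?_
  rw [Module.rankAtStalk_eq_finrank_of_free]
  rfl

/-- The norm of a class on `X_M`. -/
theorem pull_norm [IsSepClosed Ω] (d : Pic (pullback f (bc k M))) (c : Pic (pullback f (bc k Ω)))
    (h : ∀ τ : M →ₐ[k] Ω, pull (Decomp.em f τ) d = c) :
    pull (pullback.fst f (bc k Ω)) (K450.KeyNorm.nrm (pullback.fst f (bc k M)) (rank_fst f) d) =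
      c ^ Module.finrank k M :=
  NormBC.pull_nrm_of_eq (IsPullback.of_hasPullback (pullback.fst f (bc k M)) (pullback.fst f (bc k Ω)))
    (rank_fst f) d c (Decomp.pull_eq f d c h)

end

/-- **Descent of torsion classes.** -/
theorem main {k : Type u} [Field k] {C : Scheme.{u}} (f : C ⟶ Spec (CommRingCat.of k))
    (hC : Curve.IsSmoothProperCurve k C f) (hH0 : IsIso f.appTop) (hg : 2 ≤ Models.curveGenus k C f) {l : ℕ}
    (hl : l.Prime) (hlg : 2 * Models.curveGenus k C f - 2 < l) (Ω : Type u) [Field Ω] [Algebra k Ω]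
    [IsSepClosure k Ω] (c : Pic (pullback f (bc k Ω))) (hc : c ^ l = 1)
    (hinv : ∀ σ : Ω ≃ₐ[k] Ω, pull (tw f σ) c = c) :
    ∃ a : Pic C, pull (pullback.fst f (bc k Ω)) a = c := by
  let _ : C.Over (Spec (CommRingCat.of k)) := ⟨f⟩
  have hp := hC.1
  have hcC : CompactSpace C := (quasiCompact_iff_compactSpace f).mp inferInstance
  have hqC : QuasiSeparatedSpace C := (quasiSeparated_iff_quasiSeparatedSpace f).mp inferInstance
  obtain ⟨x, -, hsep, hdeg, hfd⟩ := S1565.result k C hC (ExtMain.finrank_H0 k C hH0) hg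
  let _ : Algebra k (C.residueField x) := Curv2.resAlgebra k C x
  have hpt : C.fromSpecResidueField x ≫ f = bc k (C.residueField x) :=
    (VarietyB.ResMap.specMap_resMap k C x).symm
  have hΩ : IsSepClosed Ω := IsSepClosure.sep_closed k
  have hΩs : Algebra.IsSeparable k Ω := IsSepClosure.separable
  have hG : IsGalois k Ω := inferInstance
  let M : Type u := C.residueField x
  let _ : Field M := inferInstanceAs (Field (C.residueField x))
  let _ : Algebra k M := Curv2.resAlgebra k C x
  have hfd' : FiniteDimensional k M := hfd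
  have hsep' : Algebra.IsSeparable k M := hsep
  let ι : M →ₐ[k] Ω := IsSepClosed.lift
  let _ : Algebra M Ω := ι.toRingHom.toAlgebra
  have : IsScalarTower k M Ω := IsScalarTower.of_algebraMap_eq (fun r => (ι.commutes r).symm)
  have hGM : IsGalois M Ω := IsGalois.tower_top_of_isGalois k M Ω
  obtain ⟨d, hd⟩ := exists_em_eq (M := M) (Ω := Ω) f hH0 (C.fromSpecResidueField x) hpt c
    (fun σ => hinv _)
  have hall : ∀ τ : M →ₐ[k] Ω, pull (Decomp.em f τ) d = c := by
    intro τ
    let σ₀ : Ω →ₐ[k] Ω := τ.liftNormal Ω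
    have hσ₀ : ∀ m : M, σ₀ (algebraMap M Ω m) = τ m := fun m => τ.liftNormal_commutes Ω m
    let σ : Ω ≃ₐ[k] Ω := AlgEquiv.ofBijective σ₀ (Algebra.IsAlgebraic.algHom_bijective σ₀)
    have h1 : ((σ : Ω →ₐ[k] Ω).comp (IsScalarTower.toAlgHom k M Ω)) = τ := by
      ext m
      exact hσ₀ m
    rw [← h1, ← tw_em, pull_comp, hd, hinv]
  have hN := pull_norm f d c hall
  set N := K450.KeyNorm.nrm (pullback.fst f (bc k M)) (rank_fst f) d
  set m := Module.finrank k M with hm
  have hm0 : 0 < m := Module.finrank_pos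
  have hml : m < l := lt_of_le_of_lt hdeg hlg
  have hcop : Nat.Coprime m l := (Nat.coprime_of_lt_prime hm0.ne' hml hl).symm
  obtain ⟨u, -, hu⟩ := Nat.exists_mul_mod_eq_one_of_coprime hcop hl.one_lt
  refine ⟨N ^ u, ?_⟩
  rw [map_pow, hN, ← pow_mul]
  conv_lhs => rw [← Nat.div_add_mod (m * u) l, hu, pow_succ, pow_mul, hc, one_pow, one_mul]

end K746.Descent
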