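import Groth.Agent.AbSch.K450.KeyNorm
import Groth.Agent.AbSch.K258.KeyDat
import Groth.Agent.CohqB.FinAmple
import Groth.Agent.S0017
import Groth.Agent.Vancyc.H878.Triv

/-!
# The norm of classes of invertible modules: base change, and the norm of a pullback

`nrm q hO : Pic V →* Pic S` is the norm along a finite locally free `q : V ⟶ S` of rank `d` (`K450.KeyNorm`).

* `nrm_pull` : `nrm q (q^* c) = c ^ d`;
* `pull_nrm` : the norm commutes with base change;
* `pull_nrm_of_eq` : if `p'^* a = q'^* c` on `V ×_S S'` then `p^* (nrm q a) = c ^ d`.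
-/

set_option autoImplicit false
universe u

open CategoryTheory CategoryTheory.Limits AlgebraicGeometry
open Groth.Agent Groth.Agent.Grpsch K451.DetPic K450.KeyNorm

namespace K746.NormBC

variable {V S V' S' : Scheme.{u}} {q : V ⟶ S} {p : S' ⟶ S} {p' : V' ⟶ V} {q' : V' ⟶ S'}

/-- The norm of a pullback. -/
theorem nrm_pull (q : V ⟶ S) [IsFinite q] {d : ℕ}
    (hO : FlatMod.IsFinLocFreeOfRank d ((Coh.push q).obj (Coh.structureModule V))) (c : PicGrp.Pic S) :
    nrm q hO (PicGrp.pull q c) = c ^ d := by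
  induction c using PicGrp.ind with | _ L hL => ?_
  have hqL := Groth.Agent.Fdesc.LocGen.isInvertible_pullback q hL
  rw [PicGrp.pull_mk, nrm_mk q hO hqL]
  -- `q_* q^* L ≅ L ⊗ q_* O`
  let e1 := VarietyB.ProjForm.projIso q (Groth.Agent.CohqB.FinAmple.hasBases_of_isInvertible hL)
    (Coh.structureModule V)
  let e : CohB1.tensorMod L ((Coh.push q).obj (Coh.structureModule V)) ≅
      (Coh.push q).obj ((Scheme.Modules.pullback q).obj L) :=
    e1 ≪≫ (Coh.push q).mapIso (Ega2.Tens.runit _)
  have hL1 : FlatMod.IsFinLocFreeOfRank 1 L := rank_one_iff.mpr hL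
  have h1 := det_tensor hL1 hO
  rw [det_one hL1 hL, pow_one] at h1
  have h2 : det d _ (rank_push q hO hqL) = det (1 * d) _ (rank_tensor hL1 hO) :=
    (det_congr (rank_tensor hL1 hO) (rank_push q hO hqL) (one_mul d) e).symm
  rw [h2, h1, mul_assoc, mul_inv_cancel, mul_one]

/-- Base change of the direct image. -/
theorem nonempty_bc (sq : IsPullback p' q' q p) [IsFinite q] {M : V.Modules} (hM : Coh.IsQCoh M) :
    Nonempty ((Scheme.Modules.pullback p).obj ((Coh.push q).obj M) ≅
      (Coh.push q').obj ((Scheme.Modules.pullback p').obj M)) := by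
  have := hM
  exact S0017.result q p p' q' sq M

/-- Pullback of locally free modules of rank `d`. -/
theorem rank_pullback (p : S' ⟶ S) {d : ℕ} {E : S.Modules} (hE : FlatMod.IsFinLocFreeOfRank d E) :
    FlatMod.IsFinLocFreeOfRank d ((Scheme.Modules.pullback p).obj E) :=
  Groth.Agent.Vancyc.H878.Triv.isFinLocFreeOfRank_pullback p hE

/-- The rank of `q_* O` after base change. -/
theorem rank_bc (sq : IsPullback p' q' q p) [IsFinite q] {d : ℕ}
    (hO : FlatMod.IsFinLocFreeOfRank d ((Coh.push q).obj (Coh.structureModule V))) :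
    FlatMod.IsFinLocFreeOfRank d ((Coh.push q').obj (Coh.structureModule V')) := by
  obtain ⟨e⟩ := nonempty_bc sq (M := Coh.structureModule V) (CurvesC.UnitCoh.isQCoh_unit V)
  exact rank_of_iso (e ≪≫ (Coh.push q').mapIso (CurvesA.HHMap.pullbackUnit p')) (rank_pullback p hO)

/-- The norm commutes with base change. -/
theorem pull_nrm (sq : IsPullback p' q' q p) [IsFinite q] [IsFinite q'] {d : ℕ}
    (hO : FlatMod.IsFinLocFreeOfRank d ((Coh.push q).obj (Coh.structureModule V)))
    (hO' : FlatMod.IsFinLocFreeOfRank d ((Coh.push q').obj (Coh.structureModule V'))) (a : PicGrp.Pic V) :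
    PicGrp.pull p (nrm q hO a) = nrm q' hO' (PicGrp.pull p' a) := by
  induction a using PicGrp.ind with | _ L hL => ?_
  have hL' := Groth.Agent.Fdesc.LocGen.isInvertible_pullback p' hL
  obtain ⟨e0⟩ := nonempty_bc sq (M := Coh.structureModule V) (CurvesC.UnitCoh.isQCoh_unit V)
  obtain ⟨e1⟩ := nonempty_bc sq (M := L) (Ega2.QCohLocal.isQCoh_of_isInvertible hL)
  have h0 := rank_pullback p hO
  have h1 := rank_pullback p (rank_push q hO hL)
  rw [PicGrp.pull_mk, nrm_mk q hO hL, nrm_mk q' hO' hL', map_mul, map_inv, K258.KeyDat.pull_det p hO h0,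
    K258.KeyDat.pull_det p (rank_push q hO hL) h1,
    det_congr h0 hO' rfl (e0 ≪≫ (Coh.push q').mapIso (CurvesA.HHMap.pullbackUnit p')),
    det_congr h1 (rank_push q' hO' hL') rfl e1]

/-- If `a` and `c` agree on the fibre product then the norm of `a` pulls back to `c ^ d`. -/
theorem pull_nrm_of_eq (sq : IsPullback p' q' q p) [IsFinite q] {d : ℕ}
    (hO : FlatMod.IsFinLocFreeOfRank d ((Coh.push q).obj (Coh.structureModule V))) (a : PicGrp.Pic V)
    (c : PicGrp.Pic S') (h : PicGrp.pull p' a = PicGrp.pull q' c) :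
    PicGrp.pull p (nrm q hO a) = c ^ d := by
  have : IsFinite q' := MorphismProperty.of_isPullback sq inferInstance
  rw [pull_nrm sq hO (rank_bc sq hO), h, nrm_pull]

end K746.NormBC
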