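import Groth.Prelude.Def_VanCyc
import Groth.Agent.Picfga.GaloisAct
import Groth.Agent.Grpsch.PicGrp

/-!
# The geometric generic fibre of a model and the base change of the curve

`p : X ⟶ Spec R`, `C = X ×_R K` (any cartesian square), `Ω / K`: `C ×_K Ω ≅ X ×_R Ω`, compatibly with the action of
`Aut_K(Ω)`; statements about the Galois action on torsion classes carry over.
-/

set_option autoImplicit false
universe u

open CategoryTheory CategoryTheory.Limits AlgebraicGeometry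
open Groth.Agent Groth.Agent.Grpsch.PicGrp Groth.Agent.Picfga.FieldSections Groth.Agent.Picfga.GaloisAct

namespace K746.Transport

variable {R : Type u} [CommRing R] {K : Type u} [Field K] [Algebra R K] {Ω : Type u} [Field Ω]
  [Algebra K Ω] [Algebra R Ω] [IsScalarTower R K Ω] {X C : Scheme.{u}} {p : X ⟶ Spec (CommRingCat.of R)}
  {f : C ⟶ Spec (CommRingCat.of K)} {g : C ⟶ X}

variable (R K Ω) in
theorem bc_toS : bc K Ω ≫ Spec.map (CommRingCat.ofHom (algebraMap R K)) = VanCyc.toS R Ω := by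
  rw [bc, ← Spec.map_comp, ← CommRingCat.ofHom_comp, ← IsScalarTower.algebraMap_eq]

variable (sq : IsPullback g f p (Spec.map (CommRingCat.ofHom (algebraMap R K))))
include sq

variable (Ω) in
theorem isPullback_fib : IsPullback (pullback.fst f (bc K Ω) ≫ g) (pullback.snd f (bc K Ω)) p (VanCyc.toS R Ω) := by
  have h1 := (IsPullback.of_hasPullback f (bc K Ω)).flip.paste_vert sq.flip
  rw [bc_toS R K Ω] at h1
  exact h1.flip

variable (Ω) in
/-- `C ×_K Ω ≅ X ×_R Ω`. -/
noncomputable def iso : pullback f (bc K Ω) ≅ VanCyc.fib R p Ω := (isPullback_fib Ω sq).isoPullback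

theorem iso_hom_jA : (iso Ω sq).hom ≫ VanCyc.jA R p Ω = pullback.fst f (bc K Ω) ≫ g :=
  (isPullback_fib Ω sq).isoPullback_hom_fst

theorem iso_hom_fibStr : (iso Ω sq).hom ≫ VanCyc.fibStr R p Ω = pullback.snd f (bc K Ω) :=
  (isPullback_fib Ω sq).isoPullback_hom_snd

theorem tw_iso (σ : Ω ≃ₐ[K] Ω) : tw f σ ≫ (iso Ω sq).hom = (iso Ω sq).hom ≫ VanCyc.galGeom p σ := by
  apply pullback.hom_ext
  · change (tw f σ ≫ (iso Ω sq).hom) ≫ VanCyc.jA R p Ω = ((iso Ω sq).hom ≫ VanCyc.galGeom p σ) ≫ VanCyc.jA R p Ω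
    rw [Category.assoc, Category.assoc, VanCyc.galGeom_jA, iso_hom_jA, ← Category.assoc, tw_fst]
  · have h1 : VanCyc.galGeom p σ ≫ VanCyc.fibStr R p Ω = VanCyc.fibStr R p Ω ≫ spAut σ := by
      rw [VanCyc.galGeom, pullback.map, pullback.lift_snd]
    change (tw f σ ≫ (iso Ω sq).hom) ≫ VanCyc.fibStr R p Ω = ((iso Ω sq).hom ≫ VanCyc.galGeom p σ) ≫ VanCyc.fibStr R p Ω
    rw [Category.assoc, Category.assoc, h1, iso_hom_fibStr, tw_snd, ← Category.assoc, iso_hom_fibStr]

theorem pull_tw (σ : Ω ≃ₐ[K] Ω) (c : Pic (VanCyc.fib R p Ω)) :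
    pull (tw f σ) (pull (iso Ω sq).hom c) = pull (iso Ω sq).hom (pull (VanCyc.galGeom p σ) c) := by
  rw [← pull_comp, ← pull_comp, tw_iso]

theorem pull_hom_inv (c : Pic (pullback f (bc K Ω))) : pull (iso Ω sq).hom (pull (iso Ω sq).inv c) = c := by
  rw [← pull_comp, Iso.hom_inv_id, pull_id]

/-- **Transport of the unipotence on the torsion classes.** -/
theorem main (n : ℕ) (σ τ : Ω ≃ₐ[K] Ω)
    (H : ∀ c : Pic (VanCyc.fib R p Ω), c ^ n = 1 →
      pull (VanCyc.galGeom p σ) (pull (VanCyc.galGeom p τ) c * c⁻¹) = pull (VanCyc.galGeom p τ) c * c⁻¹)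
    (c : Pic (pullback f (bc K Ω))) (hc : c ^ n = 1) :
    pull (tw f σ) (pull (tw f τ) c * c⁻¹) = pull (tw f τ) c * c⁻¹ := by
  have h1 := H (pull (iso Ω sq).inv c) (by rw [← map_pow, hc, map_one])
  have h2 := congrArg (pull (iso Ω sq).hom) h1
  rw [← pull_tw, map_mul, map_inv, ← pull_tw, pull_hom_inv] at h2
  exact h2

end K746.Transport
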